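import Groth.Agent.Lib.ActSep.GrpArt
import Groth.Agent.Lib.ActSep.GrpDim
import Groth.Agent.Lib.ActSep.NeutralHom
import Groth.Agent.Lib.Flat55.FlatEquidim
import Groth.Agent.Lib.Flat55.FibreDimVal
import Mathlib.AlgebraicGeometry.Morphisms.Smooth

/-!
Quasi-finite homomorphisms of group schemes: dimensions and flatness.
-/

set_option autoImplicit false
set_option backward.isDefEq.respectTransparency false
set_option backward.isDefEq.respectTransparency.types false

universe u

open CategoryTheory Limits MonoidalCategory CartesianMonoidalCategory MonObj AlgebraicGeometry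
open Groth.Agent.Lib

namespace Groth.Agent.Lib.NeronIsog

section Field

variable {k : Type u} [Field k] {G H : Over (Spec (CommRingCat.of k))} [GrpObj G] [GrpObj H]
  [LocallyOfFiniteType G.hom] [LocallyOfFiniteType H.hom] (u : G ⟶ H)

omit [GrpObj G] [GrpObj H] [LocallyOfFiniteType H.hom] in
theorem pdim_apply [LocallyQuasiFinite u.left] (x : G.left) :
    VarDim.Basic.pdim H.hom (u.left x) = VarDim.Basic.pdim G.hom x := by
  have : LocallyOfFiniteType (u.left ≫ H.hom) := by rw [Over.w u]; infer_instance
  have : LocallyOfFiniteType u.left := locallyOfFiniteType_of_comp u.left H.hom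
  have h1 := (VarDim.Semicont.tdAt_le_fibreDimAt u.left (specializes_refl x) rfl).trans
    (Flat55.FlatEquidim.fibreDimAt_le_zero u.left x)
  have h1' : VarDim.Basic.tdAt u.left x ≤ 0 := by exact_mod_cast h1
  have h2 := VarDim.Fibre.pdim_eq_add G.hom H.hom u.left (Over.w u) x
  omega

omit [GrpObj G] [GrpObj H] in
theorem dim_eq_of_surjective [LocallyQuasiFinite u.left] [Surjective u.left] :
    topologicalKrullDim ↥G.left = topologicalKrullDim ↥H.left := by
  refine le_antisymm ?_ ?_
  · refine (VarDim.Basic.topologicalKrullDim_scheme_le_iff G.hom _).2 fun x => ?_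
    rw [← pdim_apply u x]
    exact VarDim.Basic.pdim_le_topologicalKrullDim_scheme H.hom _
  · refine (VarDim.Basic.topologicalKrullDim_scheme_le_iff H.hom _).2 fun y => ?_
    obtain ⟨x, rfl⟩ := u.left.surjective y
    rw [pdim_apply u x]
    exact VarDim.Basic.pdim_le_topologicalKrullDim_scheme G.hom _

/-- A quasi-finite homomorphism to a reduced group of the same dimension is flat. -/
theorem flat_of_dim_eq [IsMonHom u] [LocallyQuasiFinite u.left] [IsReduced H.left]
    (h : topologicalKrullDim ↥G.left = topologicalKrullDim ↥H.left) : Flat u.left := by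
  let e := η[G].left (IsLocalRing.closedPoint k)
  obtain ⟨n, hn⟩ : ∃ n : ℕ, topologicalKrullDim ↥G.left = n := by
    obtain ⟨n, hn⟩ := FibreDim.Chart.exists_fibreDimAt_eq G.hom e
    refine ⟨n, ?_⟩
    rw [FibreDim.Basic.fibreDimAt_eq] at hn
    rw [← ActSep.localDim_eq_topologicalKrullDim G e, ← hn]
    have hu : (G.hom.base ⁻¹' {G.hom.base e} : Set G.left) = Set.univ :=
      Set.eq_univ_of_forall fun w => Subsingleton.elim (α := Spec (CommRingCat.of k)) _ _
    exact (FibreDim.Basic.localDim_eq_of_homeomorph ((Homeomorph.setCongr hu).trans (Homeomorph.Set.univ _)) ⟨e, rfl⟩)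
  obtain ⟨x, hx⟩ : ∃ x, n ≤ VarDim.Basic.pdim G.hom x := by
    by_contra hall
    push Not at hall
    have hn0 : n ≠ 0 := fun h0 => by have := hall e; omega
    have := (VarDim.Basic.topologicalKrullDim_scheme_le_iff G.hom ((n - 1 : ℕ) : WithBot ℕ∞)).2 fun x => by
      have := hall x
      exact_mod_cast (show VarDim.Basic.pdim G.hom x ≤ n - 1 by omega)
    rw [hn] at this
    have : n ≤ n - 1 := by exact_mod_cast this
    omega
  have hmax : ∀ y : H.left, y ⤳ u.left x → y = u.left x := fun y hy => by
    refine VarDim.Basic.eq_of_pdim_le H.hom hy ?_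
    rw [pdim_apply u x]
    have h1 := VarDim.Basic.pdim_le_topologicalKrullDim_scheme H.hom y
    rw [← h, hn] at h1
    have h1' : VarDim.Basic.pdim H.hom y ≤ n := by exact_mod_cast h1
    omega
  have : Flat G.hom := Groth.Agent.Lib.GrpSch.flat_of_isField (R := CommRingCat.of k) (Field.toIsField k) G.hom
  refine ActSep.flat_of_flat_at_point u (fun T g => ActSep.exists_iso_hom u T g) x ?_
  have hF : IsField (H.left.presheaf.stalk (u.left x)) := ModelFibre.MaxPoint.isField_stalk hmax
  let : Field (H.left.presheaf.stalk (u.left x)) := hF.toField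
  let := (u.left.stalkMap x).hom.toAlgebra
  show Module.Flat (H.left.presheaf.stalk (u.left x)) (G.left.presheaf.stalk x)
  infer_instance

end Field

/-- A homomorphism with quasi-finite kernel is quasi-finite. -/
theorem lqf_of_ker {S : Scheme.{u}} {G H : Over S} [GrpObj G] [GrpObj H] [LocallyOfFiniteType G.hom]
    (φ : G ⟶ H) [IsMonHom φ]
    [LocallyQuasiFinite (pullback.snd φ.left η[H].left)] : LocallyQuasiFinite φ.left := by
  have : LocallyOfFiniteType (φ.left ≫ H.hom) := by rw [Over.w φ]; infer_instance
  have : LocallyOfFiniteType φ.left := locallyOfFiniteType_of_comp φ.left H.hom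
  have hG : ∀ s, LocallyOfFiniteType (G.hom.fiberToSpecResidueField s) := fun s =>
    inferInstanceAs (LocallyOfFiniteType (pullback.snd G.hom (S.fromSpecResidueField s)))
  have hP := ActSep.pointwiseBC_locallyQuasiFinite.{u}
  rw [ActSep.iff_forall_map φ hP hG]
  intro s
  rw [ActSep.map_iff_mem φ hP hG]
  have hη : η[G].left ≫ φ.left = η[H].left := by rw [← Over.comp_left, IsMonHom.one_hom]
  let w := pullback.lift η[G].left (𝟙 (𝟙_ (Over S)).left) (by rw [hη, Category.id_comp])
  have h := (hP.mem_iff (IsPullback.of_hasPullback φ.left η[H].left) (w s)).1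
    (((ActSep.iff_nhdLocus_eq_univ @LocallyQuasiFinite _).1 ‹_›) ▸ Set.mem_univ _)
  rwa [← Scheme.Hom.comp_apply, pullback.lift_fst] at h

end Groth.Agent.Lib.NeronIsog
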